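import Cfsg.Agent.H915.A7Old.Unit
import Cfsg.Agent.StandardComponent.AltAut

/-!
# `3.A₇` is not maximal in dimension six (helper890)
-/

set_option autoImplicit false
set_option linter.unusedSectionVars false

namespace Cfsg.Agent.H915.A7Old

open Cfsg Cfsg.Geo Matrix Cfsg.Agent.H913.N6 Cfsg.Agent.H890.K6 Cfsg.Agent.H890.Y3 Cfsg.Agent.H907
open Equiv Equiv.Perm
open Cfsg.Agent.H915.LD (Core Soc toSoc tr)

/-! ### the alternating group -/

theorem pow_nine {σ : alternatingGroup (Fin 7)} (h : σ ^ 9 = 1) : σ ^ 3 = 1 := by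
  have h1 : (σ : Perm (Fin 7)) ^ 9 = 1 := congrArg Subtype.val h
  apply Subtype.ext
  show (σ : Perm (Fin 7)) ^ 3 = 1
  rw [← orderOf_dvd_iff_pow_eq_one, ← lcm_cycleType, Multiset.lcm_dvd]
  intro n hn
  have h2 : n ∣ 9 := (dvd_of_mem_cycleType hn).trans (orderOf_dvd_of_pow_eq_one h1)
  have h3 : n ≤ 7 := (le_card_support_of_mem_cycleType hn).trans (by
    have := Finset.card_le_univ (σ : Perm (Fin 7)).support
    rwa [Fintype.card_fin] at this)
  have h4 : n ∈ Nat.divisors 9 := Nat.mem_divisors.2 ⟨h2, by norm_num⟩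
  have h5 : Nat.divisors 9 = {1, 3, 9} := by decide
  rw [h5] at h4
  simp only [Finset.mem_insert, Finset.mem_singleton] at h4
  rcases h4 with rfl | rfl | rfl
  · norm_num
  · norm_num
  · omega

theorem gen7 : Subgroup.closure ({r3, r3', kk, g4} : Set (alternatingGroup (Fin 7))) = ⊤ := by
  apply Subgroup.map_injective (alternatingGroup (Fin 7)).subtype_injective
  rw [MonoidHom.map_closure, ← MonoidHom.range_eq_map, Subgroup.range_subtype]
  set G := Subgroup.closure ((alternatingGroup (Fin 7)).subtype '' {r3, r3', kk, g4}) with hG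
  have m1 : (r3 : Perm (Fin 7)) ∈ G := Subgroup.subset_closure ⟨r3, by simp, rfl⟩
  have m2 : (r3' : Perm (Fin 7)) ∈ G := Subgroup.subset_closure ⟨r3', by simp, rfl⟩
  have m3 : (kk : Perm (Fin 7)) ∈ G := Subgroup.subset_closure ⟨kk, by simp, rfl⟩
  have m4 : (g4 : Perm (Fin 7)) ∈ G := Subgroup.subset_closure ⟨g4, by simp, rfl⟩
  apply le_antisymm
  · rw [hG, Subgroup.closure_le]
    rintro _ ⟨s, -, rfl⟩
    exact s.2
  · have ht : ∀ y : Fin 7, ∃ g ∈ G, g 0 = y := by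
      have t0 : ∃ g ∈ G, g 0 = (0 : Fin 7) := ⟨1, one_mem G, rfl⟩
      have step : ∀ {x y : Fin 7} {s : Perm (Fin 7)}, s ∈ G → s x = y → (∃ g ∈ G, g 0 = x) → ∃ g ∈ G, g 0 = y := by
        rintro x y s hs hxy ⟨g, hg, rfl⟩
        exact ⟨s * g, mul_mem hs hg, hxy⟩
      have t1 := step m1 (by decide : (r3 : Perm (Fin 7)) 0 = 1) t0
      have t2 := step m1 (by decide : (r3 : Perm (Fin 7)) 1 = 2) t1
      have t3 := step m4 (by decide : (g4 : Perm (Fin 7)) 0 = 3) t0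
      have t4 := step m2 (by decide : (r3' : Perm (Fin 7)) 3 = 4) t3
      have t5 := step m2 (by decide : (r3' : Perm (Fin 7)) 4 = 5) t4
      have t6 := step m3 (by decide : (kk : Perm (Fin 7)) 5 = 6) t5
      intro y
      fin_cases y
      exacts [t0, t1, t2, t3, t4, t5, t6]
    have hpt : MulAction.IsPretransitive G (Fin 7) := by
      refine ⟨fun x y => ?_⟩
      obtain ⟨g, hg, rfl⟩ := ht x
      obtain ⟨g', hg', rfl⟩ := ht y
      refine ⟨⟨g' * g⁻¹, mul_mem hg' (inv_mem hg)⟩, ?_⟩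
      show (g' * g⁻¹) (g 0) = g' 0
      simp
    have hpp : MulAction.IsPreprimitive G (Fin 7) := MulAction.IsPreprimitive.of_prime_card (by
      rw [Nat.card_eq_fintype_card, Fintype.card_fin]; norm_num)
    exact Perm.alternatingGroup_le_of_isPreprimitive_of_isThreeCycle_mem hpp (g := (r3 : Perm (Fin 7)))
      (by
        rw [← card_support_eq_three_iff]
        decide) m1

/-- `(i, j) ↦ r3 ^ i * r3' ^ j` -/
def f9 : Multiplicative (ZMod 3 × ZMod 3) →* alternatingGroup (Fin 7) :=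
  MonoidHom.mk' (fun x => r3 ^ (x.toAdd.1).val * r3' ^ (x.toAdd.2).val) (by decide +kernel)

theorem f9_injective : Function.Injective f9 := by
  rw [injective_iff_map_eq_one]
  decide +kernel

theorem index_f9 : f9.range.index = 280 := by
  have h1 : Nat.card f9.range = 9 := by
    rw [← Nat.card_congr (MonoidHom.ofInjective f9_injective).toEquiv]
    show Nat.card (ZMod 3 × ZMod 3) = 9
    rw [Nat.card_prod, Nat.card_zmod]
  have h2 := f9.range.card_mul_index
  rw [h1, nat_card_alternatingGroup, Nat.card_eq_fintype_card, Fintype.card_fin] at h2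
  have h3 : Nat.factorial 7 / 2 = 9 * 280 := by decide
  rw [h3] at h2
  exact Nat.eq_of_mul_eq_mul_left (by norm_num) h2

/-! ### the core -/

section core

variable {F : Type*} [Field F] {P : Subgroup (GL (Fin 6) F)}

local notation "R2" => Matrix (Fin 2) (Fin 2) F
local notation "M3" => Matrix (Fin 3) (Fin 3) (Matrix (Fin 2) (Fin 2) F)
local notation "M6" => Matrix (Fin 6) (Fin 6) F

/-- lifts of generators and the scalars of `P` generate `P` -/
theorem le_of_gens {T : Type*} [Group T] (C : Cov P T) {S : Set T} (hS : Subgroup.closure S = ⊤)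
    {Y : Subgroup (GL (Fin 6) F)} (hY : ∀ s ∈ S, ∃ y ∈ Y, C.L y s) (hsc : ∀ c, sc c ∈ P → sc c ∈ Y) : P ≤ Y := by
  have key : ∀ σ : T, ∃ y ∈ Y, C.L y σ := by
    intro σ
    have h1 : σ ∈ Subgroup.closure S := by rw [hS]; exact Subgroup.mem_top _
    induction h1 using Subgroup.closure_induction with
    | mem x hx => exact hY x hx
    | one => exact ⟨1, one_mem Y, Cov.L.one⟩
    | mul x y _ _ h h' =>
      obtain ⟨u, hu, hu'⟩ := h
      obtain ⟨v, hv, hv'⟩ := h'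
      exact ⟨u * v, mul_mem hu hv, hu'.mul hv'⟩
    | inv x _ h =>
      obtain ⟨u, hu, hu'⟩ := h
      exact ⟨u⁻¹, inv_mem hu, hu'.inv⟩
  intro x hx
  obtain ⟨σ, hσ⟩ := Cov.L.of_mem C hx
  obtain ⟨y, hy, hy'⟩ := key σ
  obtain ⟨c, hc, rfl⟩ := hσ.exists_sc hy'
  exact mul_mem (hsc c hc) hy

/-- The data of a normal form. -/
structure Frame (C : Cov P (alternatingGroup (Fin 7))) (ω : Fˣ) (a b k g T : GL (Fin 6) F) (ε : F) : Prop where
  rel : Rel ω a b k g
  La : C.L a r3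
  Lb : C.L b r3'
  Lk : C.L k kk
  Lg : C.L g g4
  hω : (ω : F) ^ 2 + ω + 1 = 0
  h3 : (3 : F) ≠ 0
  hω3 : ω ^ 3 = 1
  hω1 : ω ≠ 1
  mem : sc ω ∈ P
  hε : ε ^ 2 = 1
  IA : Im T a (a3 (ω : F))
  IB : Im T b b3
  IK : Im T k (dg 1 (d0 (ω : F)) (d0 (ω : F)))
  IG : Im T g (ε • gm (ω : F) (x0 (ω : F)))
  cent : ∀ X : M6, X * a = a * X → X * b = b * X → X * k = k * X → X * g = g * X → ∃ c : F, X = c • 1

variable {C : Cov P (alternatingGroup (Fin 7))}

/-- the lifts of the two `3`-cycles do not commute -/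
theorem omega_ne_one [Finite F] (hC : Core P) (hZ : Z3 P) (hz : ∃ c : Fˣ, c ≠ 1 ∧ sc c ∈ P) {a b : GL (Fin 6) F}
    (La : C.L a r3) (Lb : C.L b r3') : a * b ≠ b * a := by
  intro hab
  obtain ⟨c, hc1, hc⟩ := hz
  have hcomm : Commute a b := hab
  let S : Subgroup P := f9.range.comap C.π
  have hS : ∀ x ∈ S, ∀ y ∈ S, x * y = y * x := by
    have form : ∀ x ∈ S, ∃ (d : Fˣ) (i j : ℕ), (x : GL (Fin 6) F) = sc d * (a ^ i * b ^ j) := by
      intro x hx
      obtain ⟨m, hm⟩ := hx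
      have h1 : C.L (x : GL (Fin 6) F) (r3 ^ (m.toAdd.1).val * r3' ^ (m.toAdd.2).val) := ⟨x.2, hm.symm⟩
      have h2 := (La.pow (m.toAdd.1).val).mul (Lb.pow (m.toAdd.2).val)
      obtain ⟨d, -, hd⟩ := h1.exists_sc h2
      exact ⟨d, _, _, hd⟩
    intro x hx y hy
    obtain ⟨d, i, j, h1⟩ := form x hx
    obtain ⟨d', i', j', h2⟩ := form y hy
    apply Subtype.ext
    rw [Subgroup.coe_mul, Subgroup.coe_mul, h1, h2]
    have e1 : Commute (a ^ i * b ^ j) (a ^ i' * b ^ j') := by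
      apply Commute.mul_left
      · exact Commute.mul_right (Commute.pow_pow (Commute.refl a) _ _) (hcomm.pow_pow _ _)
      · exact Commute.mul_right (hcomm.symm.pow_pow _ _) (Commute.pow_pow (Commute.refl b) _ _)
    have e2 : ∀ (e : Fˣ) (z : GL (Fin 6) F), Commute (sc e) z := fun e z => sc_comm e z
    exact ((e2 d _).mul_left ((e2 d' _).symm.mul_right e1)).eq
  have hzS : (⟨sc c, hc⟩ : P) ∈ S := by
    show C.π _ ∈ f9.range
    rw [(C.ker ⟨sc c, hc⟩).2 (sc_mem_scalars c)]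
    exact one_mem _
  have h1 := pow_index_mem hC.commutator_top S hS hzS (fun x => Subtype.ext (sc_comm c (x : GL (Fin 6) F)))
  have h2 : S.index = 280 := by
    rw [← index_f9]
    exact Subgroup.index_comap_of_surjective _ C.surj
  rw [h2] at h1
  have h3 : sc (c ^ 280) = (1 : GL (Fin 6) F) := by
    rw [sc_pow]
    exact congrArg Subtype.val h1
  rw [← sc_one] at h3
  have h4 := sc_inj h3
  have h5 := hZ c hc
  apply hc1
  have h6 : c ^ 280 = (c ^ 3) ^ 93 * c := by rw [← pow_mul, ← pow_succ]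
  rw [h6, h5, one_pow, one_mul] at h4
  exact h4

/-- **Existence of the frame.** -/
theorem exists_frame [Finite F] (hC : Core P) (C : Cov P (alternatingGroup (Fin 7))) (hZ : Z3 P)
    (hz : ∃ c : Fˣ, c ≠ 1 ∧ sc c ∈ P) : ∃ ω a b k g T ε, Frame C ω a b k g T ε := by
  obtain ⟨ω, a, b, k, g, hrel, La, Lb, Lk, Lg, hωP⟩ := exists_rel (C := C) hZ
  have hω1 : ω ≠ 1 := by
    rintro rfl
    apply omega_ne_one hC hZ hz La Lb
    rw [hrel.ab, sc_one, one_mul]
  have hω3 := hZ ω hωP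
  have hω3' : (ω : F) ^ 3 = 1 := by rw [← Units.val_pow_eq_pow_val, hω3, Units.val_one]
  have hω1' : (ω : F) ≠ 1 := fun h => hω1 (Units.ext h)
  have hω := omega_sum hω3' hω1'
  have h3 := three_ne hω3' hω1'
  have hcent : ∀ X : M6, X * a = a * X → X * b = b * X → X * k = k * X → X * g = g * X → ∃ c : F, X = c • 1 := by
    intro X ha hb hk hg
    apply hC.absIrred.2
    let Y : Subgroup (GL (Fin 6) F) :=
      { carrier := {x | X * (x : M6) = (x : M6) * X}
        mul_mem' := fun {x y} hx hy => by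
          change X * ((x * y : GL (Fin 6) F) : M6) = ((x * y : GL (Fin 6) F) : M6) * X
          rw [Units.val_mul, ← mul_assoc, show X * (x : M6) = (x : M6) * X from hx, mul_assoc,
            show X * (y : M6) = (y : M6) * X from hy, mul_assoc]
        one_mem' := by
          change X * ((1 : GL (Fin 6) F) : M6) = ((1 : GL (Fin 6) F) : M6) * X
          rw [Units.val_one, mul_one, one_mul]
        inv_mem' := fun {x} hx => by
          change X * ((x⁻¹ : GL (Fin 6) F) : M6) = ((x⁻¹ : GL (Fin 6) F) : M6) * X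
          have h1 : ((x⁻¹ : GL (Fin 6) F) : M6) * (X * (x : M6)) * ((x⁻¹ : GL (Fin 6) F) : M6) =
            ((x⁻¹ : GL (Fin 6) F) : M6) * ((x : M6) * X) * ((x⁻¹ : GL (Fin 6) F) : M6) := by
              rw [show X * (x : M6) = (x : M6) * X from hx]
          have h2 : (x : M6) * ((x⁻¹ : GL (Fin 6) F) : M6) = 1 := by rw [← Units.val_mul, mul_inv_cancel, Units.val_one]
          have h4 : ((x⁻¹ : GL (Fin 6) F) : M6) * (x : M6) = 1 := by rw [← Units.val_mul, inv_mul_cancel, Units.val_one]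
          rw [mul_assoc, mul_assoc, h2, mul_one, ← mul_assoc (((x⁻¹ : GL (Fin 6) F) : M6)) (x : M6), h4, one_mul] at h1
          exact h1.symm }
    have hPY : P ≤ Y := by
      refine le_of_gens C gen7 ?_ ?_
      · intro s hs
        simp only [Set.mem_insert_iff, Set.mem_singleton_iff] at hs
        rcases hs with rfl | rfl | rfl | rfl
        exacts [⟨a, ha, La⟩, ⟨b, hb, Lb⟩, ⟨k, hk, Lk⟩, ⟨g, hg, Lg⟩]
      · intro c _
        change X * ((sc c : GL (Fin 6) F) : M6) = ((sc c : GL (Fin 6) F) : M6) * X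
        rw [coe_sc, mul_smul_comm, smul_mul_assoc, mul_one, one_mul]
    rintro _ ⟨x, hx, rfl⟩
    exact hPY hx
  have hdet : (g : M6).det = 1 := by
    rw [← Matrix.GeneralLinearGroup.val_det_apply, hC.det Lg.mem, Units.val_one]
  obtain ⟨T, ε, hε, hA, hB, hK, hG⟩ := normal_form hrel hω h3 hdet hcent
  exact ⟨ω, a, b, k, g, T, ε, hrel, La, Lb, Lk, Lg, hω, h3, hω3, hω1, hωP, hε, hA, hB, hK, hG, hcent⟩

variable {ω : Fˣ} {a b k g T : GL (Fin 6) F} {ε : F}

/-- `P` preserves the transported lines -/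
theorem Frame.le_X [Finite F] (h : Frame C ω a b k g T ε) : P ≤ (X (ω : F)).map (MulAut.conj T).toMonoidHom := by
  have key : ∀ (x : GL (Fin 6) F) (x' : M3) (M : ℕ → ℕ → E) (tab : List (E × ℕ)) (θ : F), Im T x x' → θ ≠ 0 →
      (∀ r s : Fin 6, θ * rho x' r s = ev (ω : F) (M r s)) → chk M tab = true →
      x ∈ (X (ω : F)).map (MulAut.conj T).toMonoidHom := by
    intro x x' M tab θ hx hθ hM hchk
    refine ⟨T⁻¹ * x * T, ?_, ?_⟩
    · show T⁻¹ * x * T ∈ X (ω : F)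
      rw [mem_X]
      intro v hv
      have e : ((T⁻¹ * x * T : GL (Fin 6) F) : M6) = rho x' := by
        rw [mul_assoc, Units.val_mul, Units.val_mul, hx, ← mul_assoc, ← Units.val_mul, inv_mul_cancel, Units.val_one,
          one_mul]
      rw [e]
      exact isLine_mulVec h.hω h.h3 hchk hθ hM hv
    · show T * (T⁻¹ * x * T) * T⁻¹ = x
      group
  refine le_of_gens C gen7 ?_ ?_
  · intro s hs
    simp only [Set.mem_insert_iff, Set.mem_singleton_iff] at hs
    rcases hs with rfl | rfl | rfl | rfl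
    · exact ⟨a, key a _ _ _ 1 h.IA one_ne_zero (ent_A h.hω) chk_A, h.La⟩
    · exact ⟨b, key b _ _ _ 1 h.IB one_ne_zero ent_B chk_B, h.Lb⟩
    · exact ⟨k, key k _ _ _ 1 h.IK one_ne_zero (ent_K h.hω) chk_K, h.Lk⟩
    · refine ⟨g, key g _ _ _ _ h.IG ?_ (ent_G h.hω h.h3 h.hε) chk_G, h.Lg⟩
      refine mul_ne_zero (fun h0 => ?_) (theta_ne h.hω h.h3)
      have := h.hε
      rw [h0] at this
      norm_num at this
  · intro c _
    refine ⟨sc c, sc_mem_X _ c, ?_⟩
    show T * sc c * T⁻¹ = sc c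
    rw [← sc_comm, mul_inv_cancel_right]

/-- no outer automorphisms -/
theorem Frame.mem_of_norm [Finite F] (h : Frame C ω a b k g T ε) {H : Subgroup (GL (Fin 6) F)}
    (hH : IsResidualCore H P) {x : GL (Fin 6) F} (hx : x ∈ H) : ∃ y ∈ P, ∃ c, x = y * sc c := by
  have hxi : ∀ y ∈ P, x⁻¹ * y * x ∈ P := by
    intro y hy
    have := hH.normal x⁻¹ (inv_mem hx) y hy
    rwa [inv_inv] at this
  obtain ⟨φ, hφ⟩ := Cov.exists_aut C (hH.normal x hx) hxi
  obtain ⟨σ, hσ⟩ := Cfsg.Agent.StandardComponent.AltAut.exists_conj (m := 5) le_rfl φ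
  rcases Int.units_eq_one_or (sign σ) with hs | hs
  · obtain ⟨y, c, hy, hc⟩ := Cov.mem_of_inner (C := C) (h := x) (φ := φ)
      (fun g hg hcs => hH.centralizer_scalar _ (mul_mem (inv_mem (hH.le hg)) hx) hcs) hφ (γ := ⟨σ, hs⟩)
      (fun τ => Subtype.ext (hσ τ))
    exact ⟨y, hy.mem, c, hc⟩
  · exfalso
    have hmem : swap 0 1 * σ⁻¹ ∈ alternatingGroup (Fin 7) := by
      rw [mem_alternatingGroup, map_mul, map_inv, hs, sign_swap (by decide)]
      decide
    obtain ⟨y, hy⟩ := C.exists_lift ⟨swap 0 1 * σ⁻¹, hmem⟩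
    have key : ∀ u τ, C.L u τ → ∀ τ' : alternatingGroup (Fin 7), (τ' : Perm (Fin 7)) =
        swap 0 1 * (τ : Perm (Fin 7)) * (swap 0 1)⁻¹ →
        C.L ((y * x) * u * (y * x)⁻¹) τ' := by
      intro u τ hu τ' hτ'
      have h1 := (hφ u τ hu).conj hy
      have e : y * (x * u * x⁻¹) * y⁻¹ = (y * x) * u * (y * x)⁻¹ := by group
      rw [e] at h1
      refine L_congr h1 (Subtype.ext ?_)
      rw [hτ']
      show swap 0 1 * σ⁻¹ * (φ τ : Perm (Fin 7)) * (swap 0 1 * σ⁻¹)⁻¹ = _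
      rw [hσ]
      group
    have h1 := key a r3 h.La r3⁻¹ (by decide)
    have h2 := key b r3' h.Lb r3' (by decide)
    obtain ⟨c₁, -, hc₁⟩ := h1.exists_sc h.La.inv
    obtain ⟨c₂, -, hc₂⟩ := h2.exists_sc h.Lb
    have h4 : (y * x) * (a * b) * (y * x)⁻¹ = sc (ω : Fˣ) * ((y * x) * (b * a) * (y * x)⁻¹) := by
      rw [h.rel.ab, ← mul_assoc (y * x) (sc ω), ← sc_comm]; group
    have h5 : (y * x) * (a * b) * (y * x)⁻¹ = (sc c₁ * a⁻¹) * (sc c₂ * b) := by rw [← hc₁, ← hc₂]; group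
    have h6 : (y * x) * (b * a) * (y * x)⁻¹ = (sc c₂ * b) * (sc c₁ * a⁻¹) := by rw [← hc₁, ← hc₂]; group
    rw [h5, h6] at h4
    have h7 : a⁻¹ * b = sc ω * (b * a⁻¹) := by
      have e1 : (sc c₁ * a⁻¹) * (sc c₂ * b) = (sc c₁ * sc c₂) * (a⁻¹ * b) := by
        rw [mul_assoc, ← mul_assoc a⁻¹, ← sc_comm c₂ a⁻¹]; group
      have e2 : sc ω * ((sc c₂ * b) * (sc c₁ * a⁻¹)) = (sc c₁ * sc c₂) * (sc ω * (b * a⁻¹)) := by
        rw [mul_assoc (sc c₂) b, ← mul_assoc b, ← sc_comm c₁ b, sc_comm c₁ (sc c₂)]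
        rw [← mul_assoc (sc ω), ← mul_assoc (sc ω * sc c₂), sc_comm ω (sc c₂)]
        rw [mul_assoc (sc c₂) (sc ω), ← mul_assoc (sc ω) (sc c₁), sc_comm ω (sc c₁)]
        group
      rw [e1, e2] at h4
      exact mul_left_cancel h4
    have h8 : b * a = sc ω * (a * b) := by
      calc b * a = a * (a⁻¹ * b) * a := by group
        _ = a * (sc ω * (b * a⁻¹)) * a := by rw [h7]
        _ = sc ω * (a * b) := by rw [← mul_assoc a, ← sc_comm ω a]; group
    rw [h.rel.ab, ← mul_assoc, ← sc_mul] at h8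
    have h9 : sc (ω * ω) = (1 : GL (Fin 6) F) := by
      have := mul_right_cancel (a := (1 : GL (Fin 6) F)) (b := b * a) (c := sc (ω * ω)) (by rw [one_mul]; exact h8)
      exact this.symm
    rw [← sc_one] at h9
    have h10 := sc_inj h9
    exact h.hω1 (eq_one_of h.hω3 (by rw [sq]; exact h10))

/-! ### the elements `D` and `W` -/

theorem det_D {ω : F} (hω : ω ^ 2 + ω + 1 = 0) : (rho (dD ω)).det = 1 := by
  have h1 : rho (dD ω) = Matrix.diagonal (fun s : Fin 6 => ev ω (ME_D s s)) := by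
    ext r s
    rw [← one_mul (rho (dD ω) r s), ent_D hω, Matrix.diagonal_apply]
    by_cases h : r = s
    · rw [if_pos h, h]
    · rw [if_neg h, ME_D, if_neg (fun h' => h (Fin.ext h')), ev_zero]
  rw [h1, Matrix.det_diagonal, Fin.prod_univ_six]
  simp [ME_D, ev]
  linear_combination -hω

theorem cube_D (ω : F) : (dD ω * b3) ^ 3 = dg (!![ω, 0; 0, ω ^ 2] : R2) !![ω, 0; 0, ω ^ 2] !![ω, 0; 0, ω ^ 2] := by
  rw [pow_succ, sq, dD]
  obtain ⟨k00, k01, k02, k10, k11, k12, k20, k21, k22⟩ := dg_entries (!![ω, 0; 0, ω ^ 2] : R2) 1 1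
  obtain ⟨l00, l01, l02, l10, l11, l12, l20, l21, l22⟩ :=
    dg_entries (!![ω, 0; 0, ω ^ 2] : R2) !![ω, 0; 0, ω ^ 2] !![ω, 0; 0, ω ^ 2]
  have e : ∀ i j, (dg (!![ω, 0; 0, ω ^ 2] : R2) 1 1 * b3 : M3) i j = dg (!![ω, 0; 0, ω ^ 2] : R2) 1 1 i (j + 1) :=
    fun i j => mul_b3 _ i j
  have e00 := e 0 0
  have e01 := e 0 1
  have e02 := e 0 2
  have e10 := e 1 0
  have e11 := e 1 1
  have e12 := e 1 2
  have e20 := e 2 0
  have e21 := e 2 1
  have e22 := e 2 2
  rw [show (0 : Fin 3) + 1 = 1 from rfl] at e00 e10 e20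
  rw [show (1 : Fin 3) + 1 = 2 from rfl] at e01 e11 e21
  rw [show (2 : Fin 3) + 1 = 0 from rfl] at e02 e12 e22
  rw [k01] at e00
  rw [k02] at e01
  rw [k00] at e02
  rw [k11] at e10
  rw [k12] at e11
  rw [k10] at e12
  rw [k21] at e20
  rw [k22] at e21
  rw [k20] at e22
  apply ext3 <;> simp only [mul3, e00, e01, e02, e10, e11, e12, e20, e21, e22, l00, l01, l02, l10, l11, l12, l20, l21,
    l22, mul_zero, zero_mul, add_zero, zero_add, mul_one, one_mul]

/-- **`H` is not maximal in `S`.** -/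
theorem Frame.false_of [Finite F] (h : Frame C ω a b k g T ε) {S H : Subgroup (GL (Fin 6) F)}
    (hmax : IsMaximalIn S H) (hH : IsResidualCore H P)
    (hS : ∀ Y : GL (Fin 6) F, (Y : M6) = rho (dD (ω : F)) ∨ (Y : M6) = Wn (ω : F) → T * Y * T⁻¹ ∈ S) : False := by
  obtain ⟨D, hD⟩ : ∃ D : GL (Fin 6) F, (D : M6) = rho (dD (ω : F)) :=
    ⟨Matrix.GeneralLinearGroup.mkOfDetNeZero (rho (dD (ω : F))) (by rw [det_D h.hω]; exact one_ne_zero), rfl⟩
  obtain ⟨W, hW⟩ : ∃ W : GL (Fin 6) F, (W : M6) = Wn (ω : F) :=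
    ⟨Matrix.GeneralLinearGroup.mkOfDetNeZero (Wn (ω : F)) (by rw [det_Wn h.hω h.h3]; exact one_ne_zero), rfl⟩
  have hHX : H ≤ (X (ω : F)).map (MulAut.conj T).toMonoidHom := by
    intro x hx
    obtain ⟨y, hy, c, rfl⟩ := h.mem_of_norm hH hx
    refine mul_mem (h.le_X hy) ⟨sc c, sc_mem_X _ c, ?_⟩
    show T * sc c * T⁻¹ = sc c
    rw [← sc_comm, mul_inv_cancel_right]
  have hDX : T * D * T⁻¹ ∈ (X (ω : F)).map (MulAut.conj T).toMonoidHom := by
    refine ⟨D, ?_, rfl⟩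
    show D ∈ X (ω : F)
    rw [mem_X]
    intro v hv
    rw [hD]
    exact isLine_mulVec h.hω h.h3 chk_D one_ne_zero (ent_D h.hω) hv
  have hDH : T * D * T⁻¹ ∉ H := by
    intro hDH
    have hy : T * D * T⁻¹ * b ∈ H := mul_mem hDH (hH.le h.Lb.mem)
    obtain ⟨x, hx, c, hc⟩ := h.mem_of_norm hH hy
    obtain ⟨σ, hσ⟩ := Cov.L.of_mem C hx
    have hIm : Im T ((T * D * T⁻¹ * b : GL (Fin 6) F) : M6) (dD (ω : F) * b3) := by
      have h1 : Im T ((T * D * T⁻¹ : GL (Fin 6) F) : M6) (dD (ω : F)) := by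
        rw [Im, ← Units.val_mul, inv_mul_cancel_right, Units.val_mul, hD]
      rw [Units.val_mul (T * D * T⁻¹ : GL (Fin 6) F)]
      exact h1.mul h.IB
    have hIm3 := hIm.pow 3
    rw [cube_D, ← Units.val_pow_eq_pow_val] at hIm3
    have hδ9 : (!![(ω : F), 0; 0, (ω : F) ^ 2] : R2) * (!![(ω : F), 0; 0, (ω : F) ^ 2] * !![(ω : F), 0; 0, (ω : F) ^ 2]) = 1 := by
      have hω3 := omega_cube h.hω
      ext i j
      fin_cases i <;> fin_cases j <;> simp
      · linear_combination hω3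
      · linear_combination ((ω : F) ^ 3 + 1) * hω3
    have hone : (T * D * T⁻¹ * b) ^ 9 = 1 := by
      have h1 := hIm3.pow 3
      have h2 : (dg (!![(ω : F), 0; 0, (ω : F) ^ 2] : R2) !![(ω : F), 0; 0, (ω : F) ^ 2] !![(ω : F), 0; 0, (ω : F) ^ 2]) ^ 3 = 1 := by
        rw [pow_succ, sq, mul_assoc, dg_mul, dg_mul, hδ9, dg_one]
      rw [h2, ← Units.val_pow_eq_pow_val, ← pow_mul] at h1
      exact Units.ext (h1.inj (Im.one T))
    have hσ9 : σ ^ 9 = 1 := by
      have h1 := hσ.pow 9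
      have h2 : x ^ 9 = sc (c⁻¹ ^ 9) := by
        have h3 : x = (T * D * T⁻¹ * b) * sc c⁻¹ := by rw [hc, mul_assoc, ← sc_mul, mul_inv_cancel, sc_one, mul_one]
        rw [h3, ((show Commute (sc c⁻¹ : GL (Fin 6) F) (T * D * T⁻¹ * b) from sc_comm _ _).symm).mul_pow, hone, one_mul,
          sc_pow]
      have h3 : C.L (x ^ 9) 1 := Cov.L.one_iff.2 ⟨pow_mem hx 9, _, h2⟩
      exact h1.unique h3
    have hσ3 := pow_nine hσ9
    have h1 := hσ.pow 3
    rw [hσ3, Cov.L.one_iff] at h1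
    obtain ⟨-, d, hd⟩ := h1
    have h2 : (T * D * T⁻¹ * b) ^ 3 = sc (d * c ^ 3) := by
      rw [hc, ((show Commute (sc c : GL (Fin 6) F) x from sc_comm _ _).symm).mul_pow, hd, ← sc_pow, ← sc_mul]
    rw [h2] at hIm3
    have h4 : Im T ((sc (d * c ^ 3) : GL (Fin 6) F) : M6) (((d * c ^ 3 : Fˣ) : F) • (1 : M3)) := by
      rw [Im, coe_sc, rho_smul, map_one, Matrix.smul_mul, Matrix.mul_smul, Matrix.one_mul, Matrix.mul_one]
    have h5 := congrFun (congrFun (hIm3.unique h4) 0) 0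
    have h6 := congrFun (congrFun h5 0) 0
    have h7 := congrFun (congrFun h5 1) 1
    have h8 : (ω : F) = (d * c ^ 3 : Fˣ) := by
      have e : (((d * c ^ 3 : Fˣ) : F) • (1 : M3)) 0 0 0 0 = (d * c ^ 3 : Fˣ) := by
        show ((d * c ^ 3 : Fˣ) : F) * 1 = _
        rw [mul_one]
      rw [e] at h6
      exact h6
    have h9 : (ω : F) ^ 2 = (d * c ^ 3 : Fˣ) := by
      have e : (((d * c ^ 3 : Fˣ) : F) • (1 : M3)) 0 0 1 1 = (d * c ^ 3 : Fˣ) := by
        show ((d * c ^ 3 : Fˣ) : F) * 1 = _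
        rw [mul_one]
      rw [e] at h7
      exact h7
    have h10 : (ω : F) * (ω - 1) = 0 := by linear_combination h9 - h8
    rcases mul_eq_zero.1 h10 with h11 | h11
    · exact ω.ne_zero h11
    · exact omega_ne h.hω h.h3 (sub_eq_zero.1 h11)
  rcases hmax.2 ((X (ω : F)).map (MulAut.conj T).toMonoidHom ⊓ S) (le_inf hHX hmax.1.le) inf_le_right with h1 | h1
  · exact hDH (by rw [← h1]; exact ⟨hDX, hS D (Or.inl hD)⟩)
  · have h2 : T * W * T⁻¹ ∈ (X (ω : F)).map (MulAut.conj T).toMonoidHom ⊓ S := by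
      rw [h1]; exact hS W (Or.inr hW)
    obtain ⟨W', hW', hW2⟩ := h2.1
    have h3 : W' = W := by
      have h4 : T * W' * T⁻¹ = T * W * T⁻¹ := hW2
      exact mul_left_cancel (mul_right_cancel h4)
    rw [h3] at hW'
    apply Wn_not h.hω h.h3
    intro v hv
    rw [← hW]
    exact (mem_X.1 hW') v hv

end core

end Cfsg.Agent.H915.A7Old
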