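import Cfsg.Agent.H913.N6Cov
import Cfsg.Agent.H890.Y3Tools

/-!
# `3.A₇` : exact relations between lifts (helper890)
-/

set_option autoImplicit false
set_option linter.unusedSectionVars false

namespace Cfsg.Agent.H915.A7Old

open Cfsg Cfsg.Geo Matrix Cfsg.Agent.H913.N6
open Equiv Equiv.Perm Cfsg.Agent.H890.Y3

section cover

variable {ι : Type} [Fintype ι] [DecidableEq ι] {F : Type*} [Field F] {P : Subgroup (GL ι F)}
  {T : Type*} [Group T] {C : Cov P T}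

/-- all scalars in `P` have order dividing three -/
def Z3 (P : Subgroup (GL ι F)) : Prop := ∀ c : Fˣ, sc c ∈ P → c ^ 3 = 1

theorem L_congr {x : GL ι F} {σ τ : T} (h : C.L x σ) (e : σ = τ) : C.L x τ := by
  rw [← e]; exact h

theorem sc_ext {c d : Fˣ} (h : c = d) : (sc c : GL ι F) = sc d := by rw [h]

theorem exists_two (hZ : Z3 P) {σ : T} (hσ : σ ^ 2 = 1) : ∃ x, C.L x σ ∧ x ^ 2 = 1 := by
  obtain ⟨y, hy⟩ := C.exists_lift σ
  have h1 := hy.pow 2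
  rw [hσ, Cov.L.one_iff] at h1
  obtain ⟨hm, c, hc⟩ := h1
  have hc3 := hZ c (hc ▸ hm)
  refine ⟨sc c * y, hy.sc_mul (hc ▸ hm), ?_⟩
  rw [(show Commute (sc c) y from sc_comm c y).mul_pow, hc, ← sc_pow, ← sc_mul, ← pow_succ, hc3, sc_one]

theorem exists_four (hZ : Z3 P) {σ : T} (hσ : σ ^ 4 = 1) : ∃ x, C.L x σ ∧ x ^ 4 = 1 := by
  obtain ⟨y, hy⟩ := C.exists_lift σ
  have h1 := hy.pow 4
  rw [hσ, Cov.L.one_iff] at h1
  obtain ⟨hm, c, hc⟩ := h1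
  have hc3 := hZ c (hc ▸ hm)
  have hm' : sc c ∈ P := hc ▸ hm
  refine ⟨sc (c ^ 2) * y, hy.sc_mul (by rw [sc_pow]; exact pow_mem hm' 2), ?_⟩
  rw [(show Commute (sc (c ^ 2)) y from sc_comm _ y).mul_pow, hc, ← sc_pow, ← sc_mul]
  have : (c ^ 2) ^ 4 * c = 1 := by
    have : (c ^ 2) ^ 4 * c = (c ^ 3) ^ 3 := by
      rw [← pow_mul, ← pow_succ, ← pow_mul]
    rw [this, hc3, one_pow]
  rw [this, sc_one]

variable [Nonempty ι]

theorem eq_one_of {c : Fˣ} (h3 : c ^ 3 = 1) (h2 : c ^ 2 = 1) : c = 1 := by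
  have : c ^ 3 = c ^ 2 * c := pow_succ c 2
  rw [this, h2, one_mul] at h3
  exact h3

/-- lifts of order two are unique -/
theorem two_unique (hZ : Z3 P) {x y : GL ι F} {σ : T} (hx : C.L x σ) (hy : C.L y σ) (hx2 : x ^ 2 = 1) (hy2 : y ^ 2 = 1) :
    x = y := by
  obtain ⟨c, hm, rfl⟩ := hx.exists_sc hy
  rw [(show Commute (sc c) y from sc_comm c y).mul_pow, hy2, mul_one, ← sc_pow, ← sc_one] at hx2
  have := eq_one_of (hZ c hm) (sc_inj hx2)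
  rw [this, sc_one, one_mul]

theorem two_conj (hZ : Z3 P) {x y g : GL ι F} {σ τ γ : T} (hx : C.L x σ) (hy : C.L y τ) (hx2 : x ^ 2 = 1)
    (hy2 : y ^ 2 = 1) (hg : C.L g γ) (h : γ * σ * γ⁻¹ = τ) : g * x * g⁻¹ = y := by
  have h1 := hx.conj hg
  rw [h] at h1
  exact two_unique hZ h1 hy (by rw [conj_pow, hx2, mul_one, mul_inv_cancel]) hy2

theorem two_comm (hZ : Z3 P) {x g : GL ι F} {σ γ : T} (hx : C.L x σ) (hx2 : x ^ 2 = 1)
    (hg : C.L g γ) (h : γ * σ = σ * γ) : g * x = x * g := by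
  have h1 := two_conj hZ hx hx hx2 hx2 hg (by rw [h, mul_inv_cancel_right])
  exact mul_inv_eq_iff_eq_mul.1 h1

end cover

def kk : alternatingGroup (Fin 7) := ⟨c[3, 4] * c[5, 6], mem_alternatingGroup.2 (by decide)⟩

theorem kk_sq : kk ^ 2 = 1 := by decide +kernel
theorem kk_ne : kk ≠ 1 := by decide +kernel
theorem g4_four : g4 ^ 4 = 1 := by decide +kernel
theorem g4_sq_two : (g4 ^ 2) ^ 2 = 1 := by decide +kernel
theorem kk_r3 : r3 * kk = kk * r3 := by decide +kernel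
theorem kk_g4 : g4 ^ 2 * kk = kk * g4 ^ 2 := by decide +kernel
theorem kk_v4 : kk * (r3' * kk * r3'⁻¹) = r3' ^ 2 * kk * (r3' ^ 2)⁻¹ := by decide +kernel
theorem kk_v4' : (r3' * kk * r3'⁻¹) * kk = kk * (r3' * kk * r3'⁻¹) := by decide +kernel
theorem kk_r6 : (kk * (g4 * kk * g4⁻¹)) ^ 3 = g4 ^ 2 := by decide +kernel
theorem g4_sq_r3 : g4 ^ 2 * r3 * (g4 ^ 2)⁻¹ = r3⁻¹ := by decide +kernel

/-- The exact relations. -/
structure Rel {ι : Type} [Fintype ι] [DecidableEq ι] {F : Type*} [Field F] (ω : Fˣ) (a b k g : GL ι F) : Prop where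
  a3 : a ^ 3 = 1
  b3 : b ^ 3 = 1
  ab : a * b = sc ω * (b * a)
  ga : g * a = b * g
  gb : g * b = a⁻¹ * g
  g4 : g ^ 4 = 1
  k2 : k ^ 2 = 1
  k1 : k ≠ 1
  ka : k * a = a * k
  sk : g ^ 2 * k = k * g ^ 2
  v4 : k * (b * k * b⁻¹) = b ^ 2 * k * (b ^ 2)⁻¹
  r6 : (k * (g * k * g⁻¹)) ^ 3 = g ^ 2

section main

variable {ι : Type} [Fintype ι] [DecidableEq ι] [Nonempty ι] {F : Type*} [Field F] {P : Subgroup (GL ι F)}
  {C : Cov P (alternatingGroup (Fin 7))}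

theorem exists_rel (hZ : Z3 P) : ∃ (ω : Fˣ) (a b k g : GL ι F), Rel ω a b k g ∧ C.L a r3 ∧ C.L b r3' ∧ C.L k kk ∧
    C.L g g4 ∧ sc ω ∈ P := by
  obtain ⟨g, hg, hg4⟩ := exists_four (C := C) hZ g4_four
  obtain ⟨k, hk, hk2⟩ := exists_two (C := C) hZ kk_sq
  have hs : C.L (g ^ 2) (g4 ^ 2) := hg.pow 2
  have hs2 : (g ^ 2) ^ 2 = 1 := by rw [← pow_mul]; exact hg4
  obtain ⟨a₀, ha₀⟩ := C.exists_lift r3
  have h1 := ha₀.conj hs
  rw [g4_sq_r3] at h1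
  obtain ⟨c, hcm, hc⟩ := h1.exists_sc ha₀.inv
  have hc3 := hZ c hcm
  obtain ⟨a, rfl⟩ : ∃ a, a = sc c * a₀ := ⟨_, rfl⟩
  have ha : C.L (sc c * a₀) r3 := ha₀.sc_mul hcm
  have hsa : g ^ 2 * (sc c * a₀) * (g ^ 2)⁻¹ = (sc c * a₀)⁻¹ := by
    have e1 : g ^ 2 * (sc c * a₀) * (g ^ 2)⁻¹ = sc c * (g ^ 2 * a₀ * (g ^ 2)⁻¹) := by
      rw [← mul_assoc (g ^ 2), ← sc_comm c (g ^ 2)]; group
    rw [e1, hc, _root_.mul_inv_rev, ← sc_inv, ← sc_comm, ← mul_assoc, ← sc_mul]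
    congr 2
    rw [eq_inv_iff_mul_eq_one, ← sq, ← pow_succ]
    exact hc3
  generalize sc c * a₀ = a at ha hsa
  clear ha₀ h1 hc
  have ha3 : a ^ 3 = 1 := by
    have h2 := ha.pow 3
    rw [r3_pow, Cov.L.one_iff] at h2
    obtain ⟨hdm, d, hd⟩ := h2
    have h3 : g ^ 2 * a ^ 3 * (g ^ 2)⁻¹ = (a ^ 3)⁻¹ := by
      rw [← conj_pow, hsa, inv_pow]
    rw [hd, ← sc_comm, mul_inv_cancel_right, ← sc_inv] at h3
    have h4 : d * d = 1 := by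
      have h5 := sc_inj h3
      nth_rewrite 1 [h5]
      exact inv_mul_cancel d
    have h5 := eq_one_of (hZ d (hd ▸ hdm)) (by rw [sq]; exact h4)
    rw [hd, h5, sc_one]
  have hb : C.L (g * a * g⁻¹) r3' := L_congr (ha.conj hg) g4_r3
  have hb3 : (g * a * g⁻¹) ^ 3 = 1 := by rw [conj_pow, ha3, mul_one, mul_inv_cancel]
  have hgb : g * (g * a * g⁻¹) = a⁻¹ * g := by
    rw [← hsa, sq]; group
  obtain ⟨ω, hωm, hω⟩ : ∃ ω, sc ω ∈ P ∧ a * (g * a * g⁻¹) = sc ω * ((g * a * g⁻¹) * a) :=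
    (L_congr (ha.mul hb) r3_comm).exists_sc (hb.mul ha)
  refine ⟨ω, a, g * a * g⁻¹, k, g, ⟨ha3, hb3, hω, by group, hgb, hg4, hk2, ?_, ?_, ?_, ?_, ?_⟩, ha, hb, hk, hg, hωm⟩
  · rintro rfl
    exact kk_ne (hk.unique Cov.L.one)
  · exact (two_comm hZ hk hk2 ha kk_r3).symm
  · exact two_comm hZ hk hk2 hs kk_g4
  · have h2 := (hk.conj hb)
    have h3 : (g * a * g⁻¹ * k * (g * a * g⁻¹)⁻¹) ^ 2 = 1 := by rw [conj_pow, hk2, mul_one, mul_inv_cancel]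
    have h4 := two_comm hZ hk hk2 h2 kk_v4'
    refine two_unique hZ (hk.mul h2) (L_congr (hk.conj (hb.pow 2)) kk_v4.symm) ?_ ?_
    · rw [(show Commute k _ from h4.symm).mul_pow, h3, hk2, mul_one]
    · rw [conj_pow, hk2, mul_one, mul_inv_cancel]
  · have h2 : C.L ((k * (g * k * g⁻¹)) ^ 3) (g4 ^ 2) := by
      exact L_congr ((hk.mul (hk.conj hg)).pow 3) kk_r6
    have hK2 : (g * k * g⁻¹) ^ 2 = 1 := by rw [conj_pow, hk2, mul_one, mul_inv_cancel]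
    have hsk := two_comm hZ hk hk2 hs kk_g4
    obtain ⟨d, hdm, hd⟩ := h2.exists_sc hs
    have hkinv : k⁻¹ = k := inv_eq_of_mul_eq_one_left (by rw [← sq]; exact hk2)
    have hKinv : (g * k * g⁻¹)⁻¹ = g * k * g⁻¹ := inv_eq_of_mul_eq_one_left (by rw [← sq]; exact hK2)
    have h5 : k * (k * (g * k * g⁻¹)) ^ 3 * k⁻¹ = ((k * (g * k * g⁻¹)) ^ 3)⁻¹ := by
      rw [← conj_pow, ← inv_pow, _root_.mul_inv_rev, hKinv, hkinv]
      congr 1
      rw [← mul_assoc, ← sq, hk2, one_mul]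
    have h6 : k * (sc d * g ^ 2) * k⁻¹ = sc d * g ^ 2 := by
      rw [← mul_assoc, ← sc_comm, mul_assoc (sc d), ← hsk]; group
    rw [hd, h6, _root_.mul_inv_rev, ← sc_inv, ← sc_comm] at h5
    have h7 : (g ^ 2)⁻¹ = g ^ 2 := inv_eq_of_mul_eq_one_left (by rw [← sq]; exact hs2)
    rw [h7] at h5
    have h8 := sc_inj (mul_right_cancel h5)
    have h9 := eq_one_of (hZ d hdm) (by rw [sq]; nth_rewrite 1 [h8]; exact inv_mul_cancel d)
    rw [hd, h9, sc_one, one_mul]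

end main

end Cfsg.Agent.H915.A7Old
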