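import Cfsg.Agent.H915.A7Old.Alg

/-!
# `3.A₇` : the multiplicity space (helper890)
-/

set_option autoImplicit false
set_option linter.unusedSectionVars false

namespace Cfsg.Agent.H915.A7Old

open Matrix

section two

variable {F : Type*} [Field F]

local notation "R2" => Matrix (Fin 2) (Fin 2) F

/-- Cayley-Hamilton -/
theorem ch2 (x : Matrix (Fin 2) (Fin 2) F) : x * x = x.trace • x - x.det • 1 := by
  rw [Matrix.trace_fin_two, Matrix.det_fin_two]
  ext i j
  fin_cases i <;> fin_cases j <;> simp [Matrix.mul_apply, Fin.sum_univ_two] <;> ring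

/-- polarised Cayley-Hamilton -/
theorem ch2' (x y : Matrix (Fin 2) (Fin 2) F) :
    x * y + y * x = x.trace • y + y.trace • x + ((x * y).trace - x.trace * y.trace) • 1 := by
  rw [Matrix.trace_fin_two, Matrix.trace_fin_two, Matrix.trace_fin_two]
  ext i j
  fin_cases i <;> fin_cases j <;> simp [Matrix.mul_apply, Fin.sum_univ_two] <;> ring

/-- a scalar matrix -/
def IsSc (x : Matrix (Fin 2) (Fin 2) F) : Prop := ∃ c : F, x = c • 1

theorem not_all_sc : ¬ ∀ X : Matrix (Fin 2) (Fin 2) F, IsSc X := by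
  intro h
  obtain ⟨c, hc⟩ := h !![0, 1; 0, 0]
  have := congrFun (congrFun hc 0) 1
  simp at this

theorem coeff_zero {x : Matrix (Fin 2) (Fin 2) F} (hx : ¬ IsSc x) {a b : F} (h : a • x + b • 1 = 0) :
    a = 0 ∧ b = 0 := by
  have ha : a = 0 := by
    by_contra ha
    apply hx
    refine ⟨-(a⁻¹ * b), ?_⟩
    have h1 : a⁻¹ • (a • x + b • (1 : Matrix (Fin 2) (Fin 2) F)) = 0 := by rw [h, smul_zero]
    rw [smul_add, smul_smul, smul_smul, inv_mul_cancel₀ ha, one_smul] at h1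
    rw [neg_smul]
    exact eq_neg_of_add_eq_zero_left h1
  refine ⟨ha, ?_⟩
  rw [ha, zero_smul, zero_add] at h
  have := congrFun (congrFun h 0) 0
  simpa using this

theorem IsSc.comm {x : Matrix (Fin 2) (Fin 2) F} (hx : IsSc x) (y : Matrix (Fin 2) (Fin 2) F) : x * y = y * x := by
  obtain ⟨c, rfl⟩ := hx
  rw [smul_mul_assoc, one_mul, mul_smul_comm, mul_one]

/-- `det (3x²)² = 1` and `(-3 det x)³ = 1` ⟹ `3 x² = 1`, unless `x` is scalar. -/
theorem t_eq_one {x : Matrix (Fin 2) (Fin 2) F} (h3 : (3 : F) ≠ 0)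
    (ht : ((3 : F) • (x * x)) * ((3 : F) • (x * x)) = 1) (hd : (-3 * x.det) ^ 3 = 1) (hx : ¬ IsSc x) :
    x.trace = 0 ∧ (3 : F) • (x * x) = 1 := by
  have hd4 : (-3 * x.det) ^ 4 = 1 := by
    have h1 := congrArg Matrix.det ht
    rw [Matrix.det_mul, Matrix.det_smul, Matrix.det_mul, Matrix.det_one, Fintype.card_fin] at h1
    linear_combination h1
  have hdet : -3 * x.det = 1 := by linear_combination hd4 - (-3 * x.det) * hd
  have hc := ch2 x
  have h1 : (3 : F) • (x * x) = (3 * x.trace) • x + 1 := by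
    rw [hc, smul_sub, smul_smul, smul_smul]
    rw [show (3 : F) * x.det = -1 by linear_combination -hdet]
    module
  rw [h1] at ht
  have h2 : ((3 * x.trace) • x + 1) * ((3 * x.trace) • x + 1) =
      (3 * x.trace ^ 2) • ((3 : F) • (x * x)) + (6 * x.trace) • x + 1 := by
    simp only [add_mul, mul_add, smul_mul_smul_comm, mul_one, one_mul]
    module
  rw [h2, h1] at ht
  have h3' : (9 * x.trace ^ 3 + 6 * x.trace) • x + (3 * x.trace ^ 2) • (1 : Matrix (Fin 2) (Fin 2) F) = 0 := by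
    have : (9 * x.trace ^ 3 + 6 * x.trace) • x + (3 * x.trace ^ 2) • (1 : Matrix (Fin 2) (Fin 2) F) =
      ((3 * x.trace ^ 2) • ((3 * x.trace) • x + 1) + (6 * x.trace) • x + 1) - 1 := by module
    rw [this, ht, sub_self]
  obtain ⟨-, h4⟩ := coeff_zero hx h3'
  have h5 : x.trace = 0 := by
    rcases mul_eq_zero.1 h4 with h | h
    · exact absurd h h3
    · exact pow_eq_zero_iff (two_ne_zero) |>.1 h
  refine ⟨h5, ?_⟩
  rw [h1, h5, mul_zero, zero_smul, zero_add]

/-- The multiplicity space. -/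
theorem stage_three {ω : F} (hω : ω ^ 2 + ω + 1 = 0) (h3 : (3 : F) ≠ 0) {k g : Matrix (Fin 3) (Fin 3) R2}
    (ka : k * a3 ω = a3 ω * k) (ga : g * a3 ω = b3 * g) (gb : a3 ω * (g * b3) = g) (k2 : k * k = 1)
    (g4 : (g * g) * (g * g) = 1) (sk : (g * g) * k = k * (g * g)) (v4 : k * b3 * k * b3 = b3 * (b3 * k))
    (r6 : (k * (g * k * (g * (g * g)))) ^ 3 = g * g)
    (hdet : ∀ x, g = gm ω x → (-3 * x.det) ^ 3 = 1)
    (hC : ∀ X : R2, (dg X X X) * k = k * (dg X X X) → (dg X X X) * g = g * (dg X X X) → IsSc X) :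
    ∃ x δ : R2, ∃ κ : F, k = dg 1 δ δ ∧ g = gm ω x ∧ (3 : F) • (x * x) = 1 ∧ δ * δ = 1 ∧ ¬ IsSc δ ∧
      x * δ + δ * x = κ • 1 ∧ κ ^ 2 = 1 := by
  obtain ⟨x, d₀, d₁, d₂, t, hk, hg, ht, hgg, htt, ht0, ht2, ht1, h00, h11, h22, h21, h02, h10⟩ :=
    stage_one hω h3 ka ga gb k2 g4 sk v4
  have hC' : ∀ X : R2, X * x = x * X → X * d₀ = d₀ * X → X * d₁ = d₁ * X → X * d₂ = d₂ * X → IsSc X := by
    intro X e1 e2 e3 e4
    apply hC X
    · rw [hk]
      obtain ⟨k00, k01, k02, k10, k11, k12, k20, k21, k22⟩ := dg_entries d₀ d₁ d₂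
      obtain ⟨X00, X01, X02, X10, X11, X12, X20, X21, X22⟩ := dg_entries X X X
      apply ext3 <;> simp only [mul3, k00, k01, k02, k10, k11, k12, k20, k21, k22, X00, X01, X02, X10, X11, X12, X20,
        X21, X22, e2, e3, e4, mul_zero, zero_mul, add_zero, zero_add]
    · rw [hg]
      obtain ⟨a00, a01, a02, a10, a11, a12, a20, a21, a22⟩ := gm_entries hω x
      obtain ⟨X00, X01, X02, X10, X11, X12, X20, X21, X22⟩ := dg_entries X X X
      apply ext3 <;> simp only [mul3, a00, a01, a02, a10, a11, a12, a20, a21, a22, X00, X01, X02, X10, X11, X12, X20,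
        X21, X22, e1, mul_zero, zero_mul, add_zero, zero_add, mul_smul_comm, smul_mul_assoc, smul_zero]
  have hxsc : ¬ IsSc x := by
    intro hx
    have hcomm := hx.comm
    have e21 : d₂ = d₁ := by
      have h1 : t * d₂ = t * d₁ := by
        rw [ht2, ht, mul_smul_comm, smul_mul_assoc, ← mul_assoc, ← hcomm, mul_assoc, ← hcomm]
      have h2 : t * (t * d₂) = t * (t * d₁) := by rw [h1]
      rwa [← mul_assoc, ← mul_assoc, htt, one_mul, one_mul] at h2
    have e0 : d₀ = 1 := by rw [← h21, e21, h11]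
    have hd1 : IsSc d₁ := hC' d₁ (by rw [hcomm]) (by rw [e0, mul_one, one_mul]) rfl (by rw [e21])
    apply not_all_sc (F := F)
    intro X
    exact hC' X (by rw [hcomm]) (by rw [e0, mul_one, one_mul]) (by rw [hd1.comm]) (by rw [e21, hd1.comm])
  obtain ⟨htr, ht1'⟩ := t_eq_one h3 (by rw [← ht]; exact htt) (hdet x hg) hxsc
  rw [ht1'] at ht
  rw [ht, one_mul, mul_one] at ht2
  subst ht2
  have e0 : d₀ = 1 := by rw [← h21, h22]
  subst e0
  obtain ⟨δ, rfl⟩ : ∃ δ, δ = d₂ := ⟨_, rfl⟩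
  have hδsc : ¬ IsSc δ := fun hδ =>
    hxsc (hC' x rfl (by rw [mul_one, one_mul]) (by rw [hδ.comm]) (by rw [hδ.comm]))
  have hncomm : δ * x ≠ x * δ := fun h => hδsc (hC' δ h (by rw [mul_one, one_mul]) rfl rfl)
  have hδtr : δ.trace = 0 := by
    have h1 := ch2 δ
    rw [h22] at h1
    have h2 : δ.trace • δ + (-(δ.det) - 1) • (1 : R2) = 0 := by
      have h3 : δ.trace • δ + (-(δ.det) - 1) • (1 : R2) = (δ.trace • δ - δ.det • 1) - 1 := by module
      rw [h3, ← h1, sub_self]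
    exact (coeff_zero hδsc h2).1
  obtain ⟨κ, hκ⟩ : ∃ κ : F, x * δ + δ * x = κ • 1 := ⟨(x * δ).trace, by
    rw [ch2', htr, hδtr, mul_zero, sub_zero, zero_smul, zero_smul, zero_add, zero_add]⟩
  refine ⟨x, δ, κ, hk, hg, ht1', h22, hδsc, hκ, ?_⟩
  rw [hk, hg] at r6
  obtain ⟨p, q, hp, hq, hE1, hE2⟩ := stage_two hω ht1' h22 r6
  obtain ⟨D, hD⟩ : ∃ D, D = (3 : F) • (x * δ * x) := ⟨_, rfl⟩
  have hxx : x * x = (3 : F)⁻¹ • 1 := by
    rw [← ht1', smul_smul, inv_mul_cancel₀ h3, one_smul]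
  have hD' : D = (3 * κ) • x - δ := by
    have e1 : x * δ = κ • 1 - δ * x := eq_sub_of_add_eq hκ
    rw [hD, e1, sub_mul, mul_assoc, hxx, smul_mul_assoc, one_mul, mul_smul_comm, mul_one, smul_sub, smul_smul,
      smul_smul, mul_inv_cancel₀ h3, one_smul]
  have hγ : δ * D + D * δ = (3 * κ ^ 2 - 2) • 1 := by
    rw [hD', mul_sub, sub_mul, mul_smul_comm, smul_mul_assoc, h22]
    calc _ = (3 * κ) • (x * δ + δ * x) - (2 : F) • 1 := by module
      _ = _ := by rw [hκ]; module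
  have hDD : D * D = 1 := by
    rw [hD']
    calc _ = (9 * κ ^ 2) • (x * x) - (3 * κ) • (x * δ + δ * x) + δ * δ := by
          simp only [sub_mul, mul_sub, smul_mul_assoc, mul_smul_comm]; module
      _ = 1 := by
          rw [hκ, hxx, h22, smul_smul, smul_smul]
          rw [show 9 * κ ^ 2 * (3 : F)⁻¹ = 3 * κ * κ by
            rw [show (9 : F) = 3 * 3 by norm_num]
            field_simp]
          module
  obtain ⟨γ, hγ'⟩ : ∃ γ : F, γ = 3 * κ ^ 2 - 2 := ⟨_, rfl⟩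
  rw [← hγ'] at hγ
  have hpD : p = (3 : F)⁻¹ • (1 + (2 : F) • D) := by
    rw [hp, hD, hxx, smul_add, smul_smul, smul_smul]
    rw [show (3 : F)⁻¹ * 2 * 3 = 2 by field_simp]
    module
  have hqD : q = (3 : F)⁻¹ • (1 - D) := by
    rw [hq, hD, hxx, smul_sub, smul_smul, inv_mul_cancel₀ h3, one_smul]
  have hpq : p - q = D := by
    rw [hpD, hqD, ← smul_sub]
    rw [show (1 + (2 : F) • D - (1 - D)) = (3 : F) • D by module, smul_smul, inv_mul_cancel₀ h3, one_smul]
  have hDδ : D * δ = γ • 1 - δ * D := eq_sub_of_add_eq (by rw [← hγ]; abel)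
  have hδD : δ * D = γ • 1 - D * δ := eq_sub_of_add_eq hγ
  have hDδD : D * δ * D = γ • D - δ := by
    rw [hDδ, sub_mul, mul_assoc, hDD, smul_mul_assoc, one_mul, mul_one]
  have hδDδ : δ * D * δ = γ • δ - D := by
    rw [hδD, sub_mul, mul_assoc, h22, smul_mul_assoc, one_mul, mul_one]
  -- E2
  rw [hpq, hδDδ, hDδD] at hE2
  have hE2' : (γ - 1) * (3 * κ) = 0 := by
    have h1 : ((γ - 1) * (3 * κ)) • x + (0 : F) • (1 : R2) = 0 := by
      have h2 : ((γ - 1) * (3 * κ)) • x + (0 : F) • (1 : R2) = (γ - 1) • (D + δ) := by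
        rw [hD']; module
      rw [h2]
      have h3 : (γ - 1) • (D + δ) = (γ • δ - D) - -(γ • D - δ) := by module
      rw [h3, hE2, sub_self]
    exact (coeff_zero hxsc h1).1
  -- E1
  have hE1' : (2 : F) * (γ - 1) = 0 := by
    have h1 : (9 : F) • p = (9 : F) • (p * p + (q * δ * q + q * δ * q)) := by rw [← hE1]
    rw [hpD, hqD] at h1
    have h2 : (9 : F) * ((3 : F)⁻¹ * (3 : F)⁻¹) = 1 := by
      rw [show (9 : F) = 3 * 3 by norm_num]; field_simp
    have h9 : (9 : F) * (3 : F)⁻¹ = 3 := by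
      rw [show (9 : F) = 3 * 3 by norm_num]; field_simp
    have h3' : ∀ X Y : R2, (9 : F) • ((3 : F)⁻¹ • X * (3 : F)⁻¹ • X +
        ((3 : F)⁻¹ • Y * δ * (3 : F)⁻¹ • Y + (3 : F)⁻¹ • Y * δ * (3 : F)⁻¹ • Y)) =
        X * X + (Y * δ * Y + Y * δ * Y) := by
      intro X Y
      simp only [smul_mul_assoc, mul_smul_comm, smul_smul, smul_add, h2, one_smul]
    rw [h3', smul_smul, h9] at h1
    have h4 : (1 + (2 : F) • D) * (1 + (2 : F) • D) = (5 : F) • 1 + (4 : F) • D := by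
      have : (1 + (2 : F) • D) * (1 + (2 : F) • D) = 1 + (4 : F) • D + (4 : F) • (D * D) := by
        simp only [add_mul, mul_add, smul_mul_assoc, mul_smul_comm, one_mul, mul_one]; module
      rw [this, hDD]; module
    have h5 : (1 - D) * δ * (1 - D) = γ • (D - 1) := by
      have : (1 - D) * δ * (1 - D) = δ - (δ * D + D * δ) + D * δ * D := by noncomm_ring
      rw [this, hγ, hDδD]; module
    rw [h4, h5] at h1
    have hDne : ¬ IsSc D := by
      rintro ⟨c, hc⟩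
      rw [hc] at hD'
      apply hncomm
      have h6 : δ = (3 * κ) • x - c • 1 := by rw [hD']; abel
      rw [h6, sub_mul, mul_sub, smul_mul_assoc, mul_smul_comm, smul_mul_assoc, mul_smul_comm, one_mul, mul_one]
    have h6 : (2 * (γ - 1)) • D + (-(2 * (γ - 1))) • (1 : R2) = 0 := by
      have h7 : (2 * (γ - 1)) • D + (-(2 * (γ - 1))) • (1 : R2) =
        ((5 : F) • 1 + (4 : F) • D + (γ • (D - 1) + γ • (D - 1))) - (3 : F) • (1 + (2 : F) • D) := by module
      rw [h7, ← h1, sub_self]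
    exact (coeff_zero hDne h6).1
  have hγ1 : γ = 1 := by
    by_cases h2 : (2 : F) = 0
    · have hκ0 : κ ≠ 0 := by
        rintro rfl
        apply hncomm
        rw [zero_smul] at hκ
        have h5 : δ * x = -(x * δ) := eq_neg_of_add_eq_zero_right hκ
        rw [h5]
        have h6 : -(x * δ) = x * δ - (2 : F) • (x * δ) := by module
        rw [h6, h2, zero_smul, sub_zero]
      have h4 : (3 : F) * κ ≠ 0 := mul_ne_zero h3 hκ0
      exact sub_eq_zero.1 ((mul_eq_zero.1 hE2').resolve_right h4)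
    · exact sub_eq_zero.1 ((mul_eq_zero.1 hE1').resolve_left h2)
  have h7 : (3 : F) * (κ ^ 2 - 1) = 0 := by rw [hγ1] at hγ'; linear_combination -hγ'
  exact sub_eq_zero.1 ((mul_eq_zero.1 h7).resolve_left h3)

/-- `x = [[0, 1/3], [1, 0]]`, `δ = [[1, 1], [0, -1]]` in the basis `v, xv`, where `δ v = v`. -/
theorem sim_pair {x δ : Matrix (Fin 2) (Fin 2) F} (h3 : (3 : F) ≠ 0) (hx : (3 : F) • (x * x) = 1) (hδ : δ * δ = 1)
    (hsc : ¬ IsSc δ) (h : x * δ + δ * x = 1) : ∃ S : GL (Fin 2) F,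
    x * (S : Matrix (Fin 2) (Fin 2) F) = (S : Matrix (Fin 2) (Fin 2) F) * !![0, (3 : F)⁻¹; 1, 0] ∧
    δ * (S : Matrix (Fin 2) (Fin 2) F) = (S : Matrix (Fin 2) (Fin 2) F) * !![1, 1; 0, -1] := by
  have h1 : δ + 1 ≠ 0 := fun h1 => hsc ⟨-1, by rw [eq_neg_of_add_eq_zero_left h1, neg_smul, one_smul]⟩
  obtain ⟨u, hu⟩ : ∃ u : Fin 2 → F, (δ + 1) *ᵥ u ≠ 0 := by
    by_contra hcon
    push Not at hcon
    apply h1
    ext i j
    have := congrFun (hcon (Pi.single j 1)) i
    rwa [Matrix.mulVec_single_one] at this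
  obtain ⟨v, hv⟩ : ∃ v, v = (δ + 1) *ᵥ u := ⟨_, rfl⟩
  rw [← hv] at hu
  have hδv : δ *ᵥ v = v := by
    rw [hv, Matrix.mulVec_mulVec, mul_add, hδ, mul_one, add_comm]
  have hxxv : x *ᵥ (x *ᵥ v) = (3 : F)⁻¹ • v := by
    have hxx : x * x = (3 : F)⁻¹ • 1 := by rw [← hx, smul_smul, inv_mul_cancel₀ h3, one_smul]
    rw [Matrix.mulVec_mulVec, hxx, Matrix.smul_mulVec, Matrix.one_mulVec]
  have hδxv : δ *ᵥ (x *ᵥ v) = v - x *ᵥ v := by
    have e1 : δ * x = 1 - x * δ := eq_sub_of_add_eq (by rw [← h]; abel)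
    rw [Matrix.mulVec_mulVec, e1, Matrix.sub_mulVec, Matrix.one_mulVec, ← Matrix.mulVec_mulVec, hδv]
  let S₀ : Matrix (Fin 2) (Fin 2) F := Matrix.of fun i j => if j = 0 then v i else (x *ᵥ v) i
  have c0 : ∀ i, S₀ i 0 = v i := fun i => rfl
  have c1 : ∀ i, S₀ i 1 = (x *ᵥ v) i := fun i => rfl
  have hdet : S₀.det ≠ 0 := by
    intro hdet
    rw [← Matrix.exists_mulVec_eq_zero_iff] at hdet
    obtain ⟨y, hy, hy0⟩ := hdet
    have e1 : y 0 • v + y 1 • (x *ᵥ v) = 0 := by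
      funext i
      have := congrFun hy0 i
      rw [Matrix.mulVec, dotProduct, Fin.sum_univ_two, c0, c1] at this
      rw [Pi.add_apply, Pi.smul_apply, Pi.smul_apply, smul_eq_mul, smul_eq_mul, mul_comm, mul_comm (y 1)]
      exact this
    by_cases hy1 : y 1 = 0
    · rw [hy1, zero_smul, add_zero] at e1
      rcases smul_eq_zero.1 e1 with h2 | h2
      · apply hy
        funext i
        fin_cases i
        · exact h2
        · exact hy1
      · exact hu h2
    · obtain ⟨l, hl⟩ : ∃ l : F, x *ᵥ v = l • v := by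
        refine ⟨-((y 1)⁻¹ * y 0), ?_⟩
        have e2 : (y 1)⁻¹ • (y 0 • v + y 1 • (x *ᵥ v)) = 0 := by rw [e1, smul_zero]
        rw [smul_add, smul_smul, smul_smul, inv_mul_cancel₀ hy1, one_smul] at e2
        rw [neg_smul]
        exact eq_neg_of_add_eq_zero_right e2
      rw [hl, Matrix.mulVec_smul, hδv] at hδxv
      rw [hl, Matrix.mulVec_smul, hl, smul_smul] at hxxv
      have e3 : (2 * l - 1) • v = 0 := by
        have : (2 * l - 1) • v = l • v - (v - l • v) := by module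
        rw [this]
        exact sub_eq_zero.2 hδxv
      have e4 : (3 * (l * l) - 1) • v = 0 := by
        have : (3 * (l * l) - 1) • v = (3 : F) • ((l * l) • v) - v := by module
        rw [this, hxxv, smul_smul, mul_inv_cancel₀ h3, one_smul, sub_self]
      have e5 := (smul_eq_zero.1 e3).resolve_right hu
      have e6 := (smul_eq_zero.1 e4).resolve_right hu
      exact one_ne_zero (α := F) (by linear_combination (3 * (2 * l + 1)) * e5 - 4 * e6)
  let S : GL (Fin 2) F := Matrix.GeneralLinearGroup.mkOfDetNeZero S₀ hdet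
  have hS : (S : Matrix (Fin 2) (Fin 2) F) = S₀ := rfl
  refine ⟨S, ?_, ?_⟩
  · rw [hS]
    ext i j
    have key : ∀ j, (x * S₀) i j = (x *ᵥ fun i => S₀ i j) i := fun j => rfl
    rw [key, Matrix.mul_apply, Fin.sum_univ_two, c0, c1]
    fin_cases j
    · show (x *ᵥ v) i = _
      simp
    · show (x *ᵥ (x *ᵥ v)) i = _
      rw [hxxv]
      simp [mul_comm]
  · rw [hS]
    ext i j
    have key : ∀ j, (δ * S₀) i j = (δ *ᵥ fun i => S₀ i j) i := fun j => rfl
    rw [key, Matrix.mul_apply, Fin.sum_univ_two, c0, c1]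
    fin_cases j
    · show (δ *ᵥ v) i = _
      rw [hδv]
      simp
    · show (δ *ᵥ (x *ᵥ v)) i = _
      rw [hδxv]
      simp [sub_eq_add_neg]

end two

end Cfsg.Agent.H915.A7Old
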